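import Groth.Agent.Lib.FBase7.Dim
import Groth.Agent.Lib.Rigidity.SmoothGroup
import Groth.Agent.Lib.RedSmooth.Basic
import Groth.Prelude.Def_AlgGrp

/-!
# Almost homogeneous curves
-/

set_option autoImplicit false
set_option linter.style.haveILetI false
set_option backward.isDefEq.respectTransparency false

universe u

open CategoryTheory CategoryTheory.Limits AlgebraicGeometry CartesianMonoidalCategory MonoidalCategory MonObj
open TopologicalSpace

noncomputable section

namespace GrothLib.CurveAct29

variable {k : Type u} [Field k]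

theorem isDominant_graph_iff (G C : Over (Spec (CommRingCat.of k))) [GrpObj G] [Smooth G.hom]
    [ConnectedSpace ↥G.left]
    [IsSeparated C.hom] [LocallyOfFiniteType C.hom] [QuasiCompact C.hom] [GeometricallyIntegral C.hom]
    (hdim : topologicalKrullDim ↥C.left = 1) (a : AlgGrp.Action G C) :
    IsDominant (lift (snd G C) a.act).left ↔ a.act ≠ snd G C := by
  haveI : IrreducibleSpace G.left := Rigidity.irreducibleSpace_of_connected G
  haveI : IrreducibleSpace C.left := GeometricallyIrreducible.irreducibleSpace_of_subsingleton C.hom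
  haveI : IsIntegral C.left := GeometricallyIntegral.isIntegral_of_subsingleton C.hom
  haveI : UniversallyOpen C.hom := inferInstance
  haveI : IrreducibleSpace ↥(G ⊗ C).left := inferInstanceAs (IrreducibleSpace ↥(pullback G.hom C.hom))
  haveI : IrreducibleSpace ↥(C ⊗ C).left := inferInstanceAs (IrreducibleSpace ↥(pullback C.hom C.hom))
  haveI : Smooth (pullback.snd G.hom C.hom) := inferInstance
  haveI : IsReduced (G ⊗ C).left := RedSmooth.isReduced_of_smooth (pullback.snd G.hom C.hom)
  let Γ' : G ⊗ C ⟶ C ⊗ C := lift (snd G C) a.act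
  let δ : C ⟶ C ⊗ C := lift (𝟙 C) (𝟙 C)
  haveI hδc : IsClosedImmersion δ.left := by
    have : δ.left = pullback.diagonal C.hom := by
      apply pullback.hom_ext <;> simp [δ]
    rw [this]
    infer_instance
  have hsec : lift (toUnit C ≫ η[G]) (𝟙 C) ≫ Γ' = δ := by
    simp only [Γ', δ, comp_lift, lift_snd]
    congr 1
    have h1 : lift (toUnit C ≫ η[G]) (𝟙 C) = (λ_ C).inv ≫ η[G] ▷ C := by
      apply CartesianMonoidalCategory.hom_ext <;> simp
    rw [h1, Category.assoc, a.one_act, Iso.inv_hom_id]
  have hδΓ : Set.range δ.left ⊆ Set.range Γ'.left := by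
    rintro _ ⟨c, rfl⟩
    rw [← hsec, Over.comp_left, Scheme.Hom.comp_apply]
    exact ⟨_, rfl⟩
  let Δ : IrreducibleCloseds ↥(C ⊗ C).left :=
    ⟨Set.range δ.left, (by rw [← Set.image_univ]; exact (IrreducibleSpace.isIrreducible_univ _).image _ δ.left.continuous.continuousOn), δ.left.isClosedEmbedding.isClosed_range⟩
  have hdim2 : topologicalKrullDim ↥(C ⊗ C).left = 1 + 1 := by
    show topologicalKrullDim ↥(pullback C.hom C.hom) = _
    rw [FBase7.topologicalKrullDim_pullback_eq_add, hdim]
  have hne : Set.range δ.left ≠ Set.univ := fun h => by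
    have h1 := Dim.IsEmbedding.topologicalKrullDim_eq δ.left.isEmbedding h
    rw [hdim] at h1
    have h2 : topologicalKrullDim (Set.univ : Set ↥(C ⊗ C).left) = topologicalKrullDim ↥(C ⊗ C).left :=
      (Dim.IsEmbedding.topologicalKrullDim_eq (Topology.IsEmbedding.id) Set.range_id).symm
    rw [h2, hdim2] at h1
    exact absurd h1 (by decide)
  refine ⟨fun hd he => hne ?_, fun hact => ?_⟩
  · have : Γ' = snd G C ≫ δ := by
      simp only [Γ', δ, comp_lift, Category.comp_id, he]
    have hsub : Set.range Γ'.left ⊆ Set.range δ.left := by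
      rintro _ ⟨g, rfl⟩
      rw [this, Over.comp_left, Scheme.Hom.comp_apply]
      exact ⟨_, rfl⟩
    exact Set.univ_subset_iff.1 (hd.denseRange.closure_range.ge.trans (closure_minimal hsub δ.left.isClosedEmbedding.isClosed_range))
  · refine ⟨?_⟩
    by_contra hnd
    let Z : IrreducibleCloseds ↥(C ⊗ C).left :=
      ⟨closure (Set.range Γ'.left), (by rw [← Set.image_univ]; exact ((IrreducibleSpace.isIrreducible_univ _).image _ Γ'.left.continuous.continuousOn).closure), isClosed_closure⟩
    let W : IrreducibleCloseds ↥(C ⊗ C).left := ⟨Set.univ, IrreducibleSpace.isIrreducible_univ _, isClosed_univ⟩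
    have hZW : Z < W := (SetLike.coe_ssubset_coe.1 ((Set.subset_univ _).ssubset_of_ne fun h => hnd (dense_iff_closure_eq.2 h)))
    have hΔZ : Δ < Z := by
      refine SetLike.coe_ssubset_coe.1 ((hδΓ.trans subset_closure).ssubset_of_ne fun h => hact ?_)
      -- a morphism from a reduced scheme landing in the diagonal
      let i := pullback.fst Γ'.left δ.left
      haveI : Surjective i := ⟨fun y => by
        obtain ⟨c, hc⟩ := h.ge (subset_closure ⟨y, rfl⟩)
        obtain ⟨z, hz, -⟩ := Scheme.Pullback.exists_preimage_pullback (f := Γ'.left) (g := δ.left) y c hc.symm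
        exact ⟨z, hz⟩⟩
      haveI : IsIso i := isIso_of_isClosedImmersion_of_surjective i
      have h1 : Γ'.left = inv i ≫ pullback.snd Γ'.left δ.left ≫ δ.left := by
        rw [← pullback.condition, IsIso.inv_hom_id_assoc]
      have h2 : Γ'.left ≫ pullback.fst C.hom C.hom = Γ'.left ≫ pullback.snd C.hom C.hom := by
        rw [h1]; simp [δ]
      apply Over.OverMorphism.ext
      simpa [Γ'] using h2.symm
    obtain ⟨q, hq⟩ : ∃ q : C.left, IsClosed ({q} : Set C.left) := by
      haveI : CompactSpace C.left := QuasiCompact.compactSpace_of_compactSpace C.hom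
      obtain ⟨q, -, hq⟩ := isClosed_univ.exists_closed_singleton (Set.univ_nonempty (α := C.left))
      exact ⟨q, hq⟩
    let P : IrreducibleCloseds ↥(C ⊗ C).left :=
      ⟨{δ.left q}, isIrreducible_singleton, by
        rw [← Set.image_singleton]; exact δ.left.isClosedEmbedding.isClosedMap _ hq⟩
    have hPΔ : P < Δ := by
      refine SetLike.coe_ssubset_coe.1 (show ({δ.left q} : Set ↥(C ⊗ C).left) ⊂ Set.range δ.left from HasSubset.Subset.ssubset_of_ne (Set.singleton_subset_iff.2 (Set.mem_range_self q)) fun h => ?_)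
      have : Subsingleton C.left := ⟨fun x y => δ.left.isEmbedding.injective
        (((Set.mem_singleton_iff.1 (h.ge ⟨x, rfl⟩)).trans (Set.mem_singleton_iff.1 (h.ge ⟨y, rfl⟩)).symm))⟩
      have h0 := topologicalKrullDim_zero_of_discreteTopology C.left
      rw [hdim] at h0
      exact absurd h0 (by decide)
    let s : LTSeries (IrreducibleCloseds ↥(C ⊗ C).left) :=
      (((RelSeries.singleton _ P).snoc Δ hPΔ).snoc Z (by simpa using hΔZ)).snoc W (by simpa using hZW)
    have hlen : ((3 : ℕ) : WithBot ℕ∞) ≤ topologicalKrullDim ↥(C ⊗ C).left :=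
      le_trans (by simp [s]) (Order.LTSeries.length_le_krullDim (α := IrreducibleCloseds ↥(C ⊗ C).left) s)
    rw [hdim2] at hlen
    exact absurd hlen (by decide)

end GrothLib.CurveAct29
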